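import Groth.Agent.QCohLib.LocSub
import Groth.Agent.TwistLib.PullGen
import Groth.Agent.TwistLib.Basic
import Groth.Agent.DevissLib.Basic

/-!
# Gluing an invertible module to trivial ones along an open
-/

set_option autoImplicit false
universe u

open CategoryTheory CategoryTheory.Limits AlgebraicGeometry TopologicalSpace Opposite
open AmpleLib (res GenOn)

noncomputable section

namespace DiscExtLib

variable {X : Scheme.{u}}

/-- Sections of a product of modules. -/
theorem pi_sections {ι : Type u} (M : ι → X.Modules) (V : X.Opens) :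
    Function.Bijective (fun (a : Γ(∏ᶜ M, V)) (i : ι) => (Pi.π M i).app V a) := by
  let F := Scheme.Modules.toPresheaf X ⋙ (evaluation (Opens X)ᵒᵖ AddCommGrpCat.{u}).obj (op V) ⋙ forget AddCommGrpCat.{u}
  haveI : PreservesLimitsOfShape (Discrete ι) (Scheme.Modules.toPresheaf X) := inferInstance
  haveI : PreservesLimitsOfShape (Discrete ι) ((evaluation (Opens X)ᵒᵖ AddCommGrpCat.{u}).obj (op V) ⋙ forget AddCommGrpCat.{u}) :=
    inferInstance
  haveI : PreservesLimit (Discrete.functor M) F :=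
    @comp_preservesLimit _ _ _ _ _ _ _ _ _ (Scheme.Modules.toPresheaf X)
      ((evaluation (Opens X)ᵒᵖ AddCommGrpCat.{u}).obj (op V) ⋙ forget AddCommGrpCat.{u}) inferInstance
      (PreservesLimitsOfShape.preservesLimit)
  have h := (Types.isLimit_iff _).mp ⟨isLimitOfPreserves F (limit.isLimit (Discrete.functor M))⟩
  refine ⟨fun a b e => ?_, fun f => ?_⟩
  · obtain ⟨_, -, huniq⟩ := h (fun j => (Pi.π M j.as).app V b) (by
      rintro ⟨i⟩ ⟨j⟩ ⟨⟨rfl : i = j⟩⟩
      simp)
    exact (huniq a fun j => congrFun e j.as).trans (huniq b fun _ => rfl).symm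
  · obtain ⟨a, ha, -⟩ := h (fun j => f j.as) (by
      rintro ⟨i⟩ ⟨j⟩ ⟨⟨rfl : i = j⟩⟩
      simp)
    exact ⟨a, funext fun i => ha ⟨i⟩⟩

/-- The structure sheaf of an open, extended to the whole scheme. -/
abbrev triv (D : X.Opens) : X.Modules :=
  (Scheme.Modules.pushforward D.ι).obj (Coh.structureModule (D : Scheme.{u}))

/-- The part of `V` inside `D`. -/
abbrev cut (D V : X.Opens) : X.Opens := D.ι ''ᵁ D.ι ⁻¹ᵁ V

theorem cut_le (D V : X.Opens) : cut D V ≤ V := D.ι.image_preimage_le V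

theorem cut_le_left (D V : X.Opens) : cut D V ≤ D := by rintro _ ⟨z, -, rfl⟩; exact z.2

theorem le_cut (D V : X.Opens) : V ⊓ D ≤ cut D V := fun z hz => ⟨⟨z, hz.2⟩, hz.1, rfl⟩

theorem cut_mono (D : X.Opens) {W V : X.Opens} (h : W ≤ V) : cut D W ≤ cut D V :=
  D.ι.image_mono (D.ι.preimage_mono h)

/-- A section of `triv D` as a function. -/
abbrev fn {D V : X.Opens} (c : Γ(triv D, V)) : Γ(X, cut D V) := c

theorem fn_smul {D V : X.Opens} (r : Γ(X, V)) (c : Γ(triv D, V)) :
    fn (r • c) = X.presheaf.map (homOfLE (cut_le D V)).op r * fn c := rfl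

theorem fn_map {D V W : X.Opens} (h : W ≤ V) (c : Γ(triv D, V)) :
    fn ((triv D).presheaf.map (homOfLE h).op c) = X.presheaf.map (homOfLE (cut_mono D h)).op (fn c) := rfl

section Glue

variable {ι : Type u} {U : X.Opens} {D : ι → X.Opens} (A : X.Modules) (E : ∀ i, Γ(A, D i))

/-- The ambient module. -/
abbrev amb : X.Modules := A ⊞ ∏ᶜ fun i => triv (D i)

/-- The first component. -/
abbrev c₀ {V : X.Opens} (a : Γ(amb (D := D) A, V)) : Γ(A, V) :=
  (biprod.fst : amb (D := D) A ⟶ A).app V a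

/-- The component at `i`. -/
abbrev cmp (i : ι) {V : X.Opens} (a : Γ(amb (D := D) A, V)) : Γ(X, cut (D i) V) :=
  fn (((biprod.snd : amb (D := D) A ⟶ _) ≫ Pi.π (fun i => triv (D i)) i).app V a)

theorem exists_amb {V : X.Opens} (s : Γ(A, V)) (c : ∀ i, Γ(X, cut (D i) V)) :
    ∃ a : Γ(amb (D := D) A, V), c₀ A a = s ∧ ∀ i, cmp A i a = c i := by
  obtain ⟨b, hb⟩ := (pi_sections (fun i => triv (D i)) V).2 c
  let inl : A ⟶ amb (D := D) A := biprod.inl
  let inr : (∏ᶜ fun i => triv (D i)) ⟶ amb (D := D) A := biprod.inr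
  refine ⟨inl.app V s + inr.app V b, ?_, fun i => ?_⟩
  · refine (map_add _ _ _).trans ?_
    show (inl ≫ biprod.fst).app V s + (inr ≫ biprod.fst).app V b = s
    rw [biprod.inl_fst, biprod.inr_fst]
    simp
  · refine (congrArg fn (map_add _ _ _)).trans ?_
    show (inl ≫ biprod.snd ≫ Pi.π _ i).app V s + (inr ≫ biprod.snd ≫ Pi.π _ i).app V b = c i
    rw [biprod.inl_snd_assoc, biprod.inr_snd_assoc, zero_comp]
    exact (congrArg (· + _) (show ((0 : A ⟶ triv (D i))).app V s = 0 from rfl)).trans ((zero_add _).trans (congrFun hb i))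

theorem c₀_res {V W : X.Opens} (h : W ≤ V) (a : Γ(amb (D := D) A, V)) :
    c₀ A (res (amb (D := D) A) h a) = res A h (c₀ A a) :=
  QCohLib.app_map _ _ a

theorem cmp_res (i : ι) {V W : X.Opens} (h : W ≤ V) (a : Γ(amb (D := D) A, V)) :
    cmp A i (res (amb (D := D) A) h a) = X.presheaf.map (homOfLE (cut_mono (D i) h)).op (cmp A i a) :=
  congrArg fn (QCohLib.app_map _ (homOfLE h) a)

theorem cmp_smul (i : ι) {V : X.Opens} (r : Γ(X, V)) (a : Γ(amb (D := D) A, V)) :
    cmp A i (r • a) = X.presheaf.map (homOfLE (cut_le (D i) V)).op r * cmp A i a :=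
  congrArg fn (QCohLib.app_smul _ V r a)

theorem cmp_sub (i : ι) {V : X.Opens} (a b : Γ(amb (D := D) A, V)) :
    cmp A i (a - b) = cmp A i a - cmp A i b :=
  map_sub (((biprod.snd : amb (D := D) A ⟶ _) ≫ Pi.π (fun i => triv (D i)) i).app V).hom a b

theorem amb_ext {V : X.Opens} {a : Γ(amb (D := D) A, V)} (h₀ : c₀ A a = 0) (h : ∀ i, cmp A i a = 0) :
    a = 0 :=
  DevissLib.app_biprod_ext a h₀ ((pi_sections (fun i => triv (D i)) V).1
    (funext fun i => (h i).trans (map_zero ((Pi.π (fun i => triv (D i)) i).app V).hom).symm))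

/-- The glued module. -/
def glue : QCohLib.LocSub (amb (D := D) A) where
  mem V a := ∀ i, res A (cut_le (D i) V) (c₀ A a) = cmp A i a • res A (cut_le_left (D i) V) (E i)
  zero V i := by
    rw [show c₀ A (0 : Γ(amb (D := D) A, V)) = 0 from map_zero _,
      show cmp A i (0 : Γ(amb (D := D) A, V)) = 0 from map_zero _, zero_smul]
    exact map_zero (A.presheaf.map (homOfLE (cut_le (D i) V)).op).hom
  add {V a b} ha hb i := by
    rw [show c₀ A (a + b) = c₀ A a + c₀ A b from map_add _ _ _,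
      show cmp A i (a + b) = cmp A i a + cmp A i b from map_add _ _ _, add_smul, ← ha i, ← hb i]
    exact map_add (A.presheaf.map (homOfLE (cut_le (D i) V)).op).hom _ _
  smul {V} r {a} ha i := by
    rw [show c₀ A (r • a) = r • c₀ A a from QCohLib.app_smul _ V r a, cmp_smul, AmpleLib.res_smul, ha i, smul_smul]
  res {V W} h {a} ha i := by
    have h' := congrArg (res A (cut_mono (D i) h)) (ha i)
    rw [AmpleLib.res_smul, AmpleLib.res_res, AmpleLib.res_res] at h'
    show res A _ (c₀ A (res (amb (D := D) A) h a)) = cmp A i (res (amb (D := D) A) h a) • _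
    rw [c₀_res, cmp_res, AmpleLib.res_res]
    exact h'
  local' {V} a ha i := by
    refine TwistLib.mod_ext A fun z hz => ?_
    obtain ⟨W, h, hzW, hm⟩ := ha z (cut_le _ _ hz)
    have hm' : res A (cut_le (D i) W) (c₀ A (res (amb (D := D) A) h a)) =
        cmp A i (res (amb (D := D) A) h a) • res A (cut_le_left (D i) W) (E i) := hm i
    rw [c₀_res, cmp_res, AmpleLib.res_res] at hm'
    have hzc : z ∈ cut (D i) W := le_cut _ _ ⟨hzW, cut_le_left _ _ hz⟩
    have h'' := congrArg (fun t => A.presheaf.germ (cut (D i) W) z hzc t) hm'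
    simp only [AmpleLib.germ_res, AmpleLib.germ_smul, TopCat.Presheaf.germ_res_apply] at h''
    simpa only [AmpleLib.germ_res, AmpleLib.germ_smul] using h''

variable {A E}
variable (hgen : ∀ i (V : X.Opens) (_ : V ≤ U) (h : V ≤ D i), Function.Bijective fun r : Γ(X, V) => r • res A h (E i))

include hgen in
theorem cmp_eq_zero {i : ι} {V : X.Opens} {a : Γ(amb (D := D) A, V)} (ha : (glue A E).mem V a)
    (h₀ : c₀ A a = 0) (hle : cut (D i) V ≤ U) : cmp A i a = 0 := by
  refine (hgen i _ hle (cut_le_left _ _)).1 ?_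
  show cmp A i a • _ = (0 : Γ(X, cut (D i) V)) • res A (cut_le_left (D i) V) (E i)
  rw [zero_smul, ← ha i, h₀]
  exact map_zero (A.presheaf.map (homOfLE (cut_le (D i) V)).op).hom

include hgen in
theorem exists_glue_module (hcov : ∀ x : X, x ∈ U ∨ ∃ i, x ∈ D i) (hdisj : ∀ i j, i ≠ j → D i ⊓ D j ≤ U)
    (hA : ∀ y ∈ U, ∃ O : X.Opens, y ∈ O ∧ O ≤ U ∧ ∃ g : Γ(A, O), GenOn A g) :
    ∃ (L : X.Modules) (p : L ⟶ A) (ε : ∀ i, Γ(L, D i)), PicF.IsInvertible L ∧
      (∀ V : X.Opens, V ≤ U → Function.Bijective (p.app V)) ∧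
      (∀ i, GenOn L (ε i) ∧ p.app (D i) (ε i) = E i) ∧
      ∀ (V : X.Opens) (s : Γ(A, V)) (c : ∀ i, Γ(X, V ⊓ D i)),
        (∀ i, res A (inf_le_left : V ⊓ D i ≤ V) s = c i • res A inf_le_right (E i)) →
        ∃ t : Γ(L, V), p.app V t = s ∧ ∀ i, res L (inf_le_left : V ⊓ D i ≤ V) t = c i • res L inf_le_right (ε i) := by
  classical
  let S := glue A E
  let p : S.toModules ⟶ A := S.ι ≫ biprod.fst
  have hU : ∀ V : X.Opens, V ≤ U → Function.Bijective (p.app V) := by
    intro V hV
    refine ⟨(injective_iff_map_eq_zero (p.app V).hom).mpr fun t ht => S.ι_app_injective V ?_, fun s => ?_⟩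
    · rw [map_zero]
      exact amb_ext A ht fun i => cmp_eq_zero hgen (S.ι_app_mem t) ht ((cut_le _ _).trans hV)
    · choose c hc using fun i => (hgen i _ ((cut_le (D i) V).trans hV) (cut_le_left _ _)).2 (res A (cut_le (D i) V) s)
      obtain ⟨a, ha₀, ha⟩ := exists_amb A s c
      refine ⟨S.lift a fun i => ?_, ha₀⟩
      rw [ha₀, ha i]
      exact (hc i).symm
  have heps : ∀ j, ∃ a : Γ(amb (D := D) A, D j), S.mem (D j) a ∧ c₀ A a = E j ∧ cmp A j a = 1 := by
    intro j
    have : ∀ i, ∃ c : Γ(X, cut (D i) (D j)),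
        res A (cut_le (D i) (D j)) (E j) = c • res A (cut_le_left _ _) (E i) ∧ (i = j → c = 1) := by
      intro i
      by_cases h : i = j
      · subst h
        exact ⟨1, (one_smul _ _).symm, fun _ => rfl⟩
      · obtain ⟨c, hc⟩ := (hgen i _ ((le_inf (cut_le_left (D i) (D j)) (cut_le _ _)).trans (hdisj i j h))
          (cut_le_left _ _)).2 (res A (cut_le (D i) (D j)) (E j))
        exact ⟨c, hc.symm, fun e => absurd e h⟩
    choose c hc hc1 using this
    obtain ⟨a, ha₀, ha⟩ := exists_amb A (E j) c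
    exact ⟨a, fun i => by rw [ha₀, ha i]; exact hc i, ha₀, (ha j).trans (hc1 j rfl)⟩
  choose e hem he₀ he1 using heps
  have hkey : ∀ j (V : X.Opens), V ≤ D j → ∀ a : Γ(amb (D := D) A, V), S.mem V a → cmp A j a = 0 → a = 0 := by
    intro j V hV a ha hj
    have h1 : res A (cut_le (D j) V) (c₀ A a) = 0 := by rw [ha j, hj, zero_smul]
    have h₀ : c₀ A a = 0 := by
      have := congrArg (res A ((le_inf le_rfl hV).trans (le_cut (D j) V))) h1
      rw [AmpleLib.res_res] at this
      exact (AmpleLib.res_refl A (c₀ A a)).symm.trans (this.trans (map_zero _))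
    refine amb_ext A h₀ fun i => ?_
    rcases eq_or_ne i j with rfl | hne
    · exact hj
    · exact cmp_eq_zero hgen ha h₀ ((le_inf (cut_le_left _ _) ((cut_le _ _).trans hV)).trans (hdisj i j hne))
  let ε : ∀ j, Γ(S.toModules, D j) := fun j => S.lift (e j) (hem j)
  have hcmp : ∀ j (V : X.Opens) (hV : V ≤ D j) (r : Γ(X, V)),
      cmp A j (S.ι.app V (r • res S.toModules hV (ε j))) = X.presheaf.map (homOfLE (cut_le (D j) V)).op r := by
    intro j V hV r
    rw [QCohLib.app_smul, show S.ι.app V (res S.toModules hV (ε j)) = res (amb (D := D) A) hV (e j) from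
      QCohLib.app_map S.ι (homOfLE hV) (ε j), cmp_smul, cmp_res, he1 j, map_one, mul_one]
  have hε : ∀ j, GenOn S.toModules (ε j) := by
    intro j V hV
    have hle : V ≤ cut (D j) V := (le_inf le_rfl hV).trans (le_cut (D j) V)
    have hre : ∀ r : Γ(X, V), X.presheaf.map (homOfLE hle).op (X.presheaf.map (homOfLE (cut_le (D j) V)).op r) = r :=
      fun r => (AmpleLib.res_res (Coh.structureModule X) (cut_le (D j) V) hle r).trans (AmpleLib.res_refl (Coh.structureModule X) r)
    refine ⟨fun r r' hrr => ?_, fun t => ?_⟩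
    · have := congrArg (fun u => X.presheaf.map (homOfLE hle).op (cmp A j (S.ι.app V u))) hrr
      simp only [hcmp, hre] at this
      exact this
    · let r : Γ(X, V) := X.presheaf.map (homOfLE hle).op (cmp A j (S.ι.app V t))
      refine ⟨r, S.ι_app_injective V (sub_eq_zero.mp ?_).symm⟩
      refine hkey j V hV _ (((S.sub V).sub_mem (S.ι_app_mem t) (S.ι_app_mem _))) ?_
      rw [cmp_sub]
      rw [hcmp, sub_eq_zero]
      exact ((AmpleLib.res_res (Coh.structureModule X) hle (cut_le (D j) V) (cmp A j (S.ι.app V t))).trans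
        (AmpleLib.res_refl (Coh.structureModule X) _)).symm
  have hpε : ∀ j, p.app (D j) (ε j) = E j := he₀
  refine ⟨S.toModules, p, ε, ?_, hU, fun i => ⟨hε i, hpε i⟩, fun V s c hc => ?_⟩
  · have : ∀ x : X, ∃ (O : X.Opens) (_ : x ∈ O), ∃ g : Γ(S.toModules, O), GenOn S.toModules g := by
      intro x
      rcases hcov x with hx | ⟨i, hi⟩
      · obtain ⟨O, hxO, hOU, g, hg⟩ := hA x hx
        clear hcov
        obtain ⟨g', hg'⟩ := (hU O hOU).2 g
        refine ⟨O, hxO, g', fun W hW => (Function.Bijective.of_comp_iff' (hU W (hW.trans hOU)) _).mp ?_⟩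
        have e : ((p.app W) ∘ fun r : Γ(X, W) => r • res S.toModules hW g') = fun r => r • res A hW g := funext fun r =>
          (QCohLib.app_smul p W r _).trans (congrArg (r • ·) ((QCohLib.app_map p (homOfLE hW) g').trans (congrArg _ hg')))
        rw [e]
        exact hg W hW
      · exact ⟨D i, hi, ε i, hε i⟩
    choose O hxO g hg using this
    exact TwistLib.isInvertible_of_genOn O (fun x => ⟨x, hxO x⟩) g hg
  · obtain ⟨a, ha₀, ha⟩ := exists_amb A s fun i =>
      X.presheaf.map (homOfLE (le_inf (cut_le (D i) V) (cut_le_left _ _))).op (c i)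
    refine ⟨S.lift a fun i => ?_, ha₀, fun i => ?_⟩
    · rw [ha₀, ha i]
      have h' := congrArg (res A (le_inf (cut_le (D i) V) (cut_le_left _ _))) (hc i)
      rw [AmpleLib.res_smul, AmpleLib.res_res, AmpleLib.res_res] at h'
      exact h'
    · refine S.ι_app_injective _ (sub_eq_zero.mp (hkey i _ inf_le_right _
        ((S.sub _).sub_mem (S.ι_app_mem _) (S.ι_app_mem _)) ?_))
      rw [cmp_sub, hcmp, sub_eq_zero]
      refine (congrArg (cmp A i) (QCohLib.app_map S.ι (homOfLE (inf_le_left : V ⊓ D i ≤ V)) _)).trans ?_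
      show cmp A i (res (amb (D := D) A) inf_le_left a) = _
      rw [cmp_res, ha i]
      exact AmpleLib.res_res (Coh.structureModule X) _ _ (c i)

end Glue

end DiscExtLib
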