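import Groth.Agent.DiscExtLib.Chart
import Groth.Agent.DiscExtLib.Glue
import Groth.Agent.UFDExtLib.Densify
import Groth.Agent.AmpleThLib.Locus

/-!
# Extending invertible modules across a discrete set of points of dimension at most one
-/

set_option autoImplicit false
universe u

open CategoryTheory CategoryTheory.Limits AlgebraicGeometry TopologicalSpace Opposite
open AmpleLib (res GenOn)

noncomputable section

namespace DiscExtLib

variable {X : Scheme.{u}} {U : X.Opens}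

theorem eq_of_discrete (hdisc : DiscreteTopology ↥((U : Set X)ᶜ)) {x y : X} (hx : x ∉ U) (hy : y ∉ U)
    (h : y ⤳ x) : y = x := by
  have h' : (⟨y, hy⟩ : ↥((U : Set X)ᶜ)) ⤳ ⟨x, hx⟩ := Topology.IsInducing.subtypeVal.specializes_iff.mp h
  exact congrArg Subtype.val h'.eq

/-- A chart isolating a point of the complement, with a function vanishing only there. -/
theorem exists_chart_fn [QuasiCompact U.ι] (hdisc : DiscreteTopology ↥((U : Set X)ᶜ)) {x : X} (hx : x ∉ U)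
    (hloc : IsNoetherianRing (X.presheaf.stalk x) ∧ ringKrullDim (X.presheaf.stalk x) ≤ 1) :
    ∃ (W : X.affineOpens) (hxW : x ∈ W.1) (f : Γ(X, W.1)), IsCompact ((U ⊓ W.1 : X.Opens) : Set X) ∧
      (∀ z ∈ W.1, z ∉ U → z = x) ∧ {y | y ⤳ x ∧ y ≠ x}.Finite ∧
      (∀ y, y ⤳ x → y ≠ x → y ∈ U ⊓ X.basicOpen f) ∧ x ∉ X.basicOpen f ∧
      ∀ y (hy : y ∈ W.1), y ⤳ x → y ≠ x → SDivLib.prm W hy ∈ minimalPrimes Γ(X, W.1) := by
  classical
  haveI := hdisc
  obtain ⟨O, hO, hOx⟩ := isOpen_induced_iff.mp (isOpen_discrete ({⟨x, hx⟩} : Set ↥((U : Set X)ᶜ)))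
  have hxO : x ∈ O := by
    have : (⟨x, hx⟩ : ↥((U : Set X)ᶜ)) ∈ Subtype.val ⁻¹' O := by rw [hOx]; rfl
    exact this
  obtain ⟨W₀, hW₀, hxW, hWO⟩ := exists_isAffineOpen_mem_and_subset (x := x) (U := (⟨O, hO⟩ : X.Opens)) hxO
  let W : X.affineOpens := ⟨W₀, hW₀⟩
  have honly : ∀ z ∈ W.1, z ∉ U → z = x := fun z hz hzU => by
    have : (⟨z, hzU⟩ : ↥((U : Set X)ᶜ)) ∈ Subtype.val ⁻¹' O := hWO hz
    rw [hOx] at this
    exact congrArg Subtype.val (Set.mem_singleton_iff.mp this)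
  have hcpt : IsCompact ((U ⊓ W.1 : X.Opens) : Set X) := by
    have h1 := (QuasiCompact.isCompact_preimage (f := U.ι) (W.1 : Set X) W.1.2 W.2.isCompact).image U.ι.continuous
    rw [Set.image_preimage_eq_inter_range, Scheme.Opens.range_ι] at h1
    rw [Opens.coe_inf, Set.inter_comm]
    exact h1
  haveI := hloc.1
  obtain ⟨hfin, hmin⟩ := generizations W hxW hloc.2
  have hyW : ∀ y, y ⤳ x → y ∈ W.1 := fun y h => h.mem_open W.1.2 hxW
  haveI : Finite {y // y ⤳ x ∧ y ≠ x} := hfin.to_subtype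
  haveI := Fintype.ofFinite {y // y ⤳ x ∧ y ≠ x}
  obtain ⟨f, hfx, hf⟩ : ∃ f ∈ SDivLib.prm W hxW, ∀ y : {y // y ⤳ x ∧ y ≠ x}, f ∉ SDivLib.prm W (hyW y y.2.1) := by
    rcases isEmpty_or_nonempty {y // y ⤳ x ∧ y ≠ x} with hem | ⟨⟨y₀⟩⟩
    · exact ⟨0, Submodule.zero_mem _, fun y => hem.elim y⟩
    by_contra hcon
    push Not at hcon
    obtain ⟨y, -, hle⟩ := (Ideal.subset_union_prime y₀ y₀ (s := (Finset.univ : Finset {y // y ⤳ x ∧ y ≠ x}))
      (f := fun y => SDivLib.prm W (hyW y y.2.1)) (fun y _ _ _ => SDivLib.prm_isPrime W _)).mp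
      fun a ha => by
        obtain ⟨y, hy⟩ := hcon a ha
        exact Set.mem_iUnion₂.mpr ⟨y, Finset.mem_univ y, hy⟩
    exact y.2.2 (UFDExtLib.eq_of_prm_eq W _ hxW
      (le_antisymm (UFDExtLib.prm_le_of_specializes W _ hxW y.2.1) hle))
  refine ⟨W, hxW, f, hcpt, honly, hfin, fun y h hne => ⟨?_, ?_⟩, fun h => ?_, hmin⟩
  · by_contra hyU
    exact hne (eq_of_discrete hdisc hx hyU h)
  · rw [SetLike.mem_coe, X.mem_basicOpen f y (hyW y h)]
    by_contra hu
    exact hf ⟨y, h, hne⟩ ((SDivLib.mem_prm_iff W _ f).mpr hu)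
  · exact (SDivLib.mem_prm_iff W hxW f).mp hfx ((X.mem_basicOpen f x hxW).mp h)

theorem invertible_push_restrict (N : (U : Scheme.{u}).Modules) (hN : PicF.IsInvertible N) :
    PicF.IsInvertible (((Scheme.Modules.pushforward U.ι).obj N).restrict U.ι) := fun x => by
  obtain ⟨O, hO, ⟨i⟩⟩ := hN x
  exact ⟨O, hO, ⟨(Scheme.Modules.restrictFunctor O.ι).mapIso
    (asIso ((Scheme.Modules.restrictAdjunction U.ι).counit.app N)) ≪≫ i⟩⟩

/-- A generator of the direct image near a point of the complement. -/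
theorem exists_gen_near [QuasiCompact U.ι] (hdisc : DiscreteTopology ↥((U : Set X)ᶜ)) {x : X} (hx : x ∉ U)
    (hloc : IsNoetherianRing (X.presheaf.stalk x) ∧ ringKrullDim (X.presheaf.stalk x) ≤ 1)
    (N : (U : Scheme.{u}).Modules) (hN : PicF.IsInvertible N) :
    ∃ D : X.Opens, x ∈ D ∧ (∀ z ∈ D, z ∉ U → z = x) ∧
      ∃ e : Γ((Scheme.Modules.pushforward U.ι).obj N, D ⊓ U), GenOn _ e := by
  classical
  obtain ⟨W, hxW, f, hcpt, honly, hfin, hgenU, -, hmin⟩ := exists_chart_fn hdisc hx hloc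
  let A := (Scheme.Modules.pushforward U.ι).obj N
  haveI : Finite {y // y ⤳ x ∧ y ≠ x} := hfin.to_subtype
  have hyW : ∀ y, y ⤳ x → y ∈ W.1 := fun y h => h.mem_open W.1.2 hxW
  choose O hyO hOU g hg using fun y : {y // y ⤳ x ∧ y ≠ x} =>
    UFDExtLib.exists_gen_of_restrict (invertible_push_restrict N hN) (hgenU y y.2.1 y.2.2).1
  haveI hp : ∀ y : {y // y ⤳ x ∧ y ≠ x}, (SDivLib.prm W (hyW y y.2.1)).IsPrime := fun y => SDivLib.prm_isPrime W _
  obtain ⟨h, hh, hnil⟩ := exists_separating (fun y : {y // y ⤳ x ∧ y ≠ x} => SDivLib.prm W (hyW y y.2.1))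
    (fun y => hmin y.1 (hyW y y.2.1) y.2.1 y.2.2)
    (fun y z e => Subtype.ext (UFDExtLib.eq_of_prm_eq W _ _ e))
  let P : X.Opens := ⨆ y, X.basicOpen (h y) ⊓ O y
  obtain ⟨c, hxc, hc⟩ := exists_basicOpen_disjoint W hxW (U ⊓ W.1) hcpt inf_le_right P.2.isClosed_compl
    (fun y hy hyC => Set.notMem_compl_iff.mpr (Opens.mem_iSup.mpr ⟨⟨y, hy, fun e => hx (e ▸ hyC.1)⟩,
      (X.mem_basicOpen _ y (hyW y hy)).mpr (not_not.mp fun hu =>
        hh ⟨y, hy, fun e => hx (e ▸ hyC.1)⟩ ((SDivLib.mem_prm_iff W _ _).mpr hu)), hyO _⟩))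
  let D := X.basicOpen c
  have hDW : D ≤ W.1 := X.basicOpen_le c
  refine ⟨D, hxc, fun z hz => honly z (hDW hz), ?_⟩
  let V : {y // y ⤳ x ∧ y ≠ x} → X.Opens := fun y => D ⊓ U ⊓ (X.basicOpen (h y) ⊓ O y)
  have hcov : D ⊓ U ≤ ⨆ y, V y := fun z hz => by
    obtain ⟨y, hy⟩ := Opens.mem_iSup.mp (not_not.mp (hc z hz.1 ⟨hz.2, hDW hz.1⟩))
    exact Opens.mem_iSup.mpr ⟨y, hz, hy⟩
  obtain ⟨e, he, -⟩ := TopCat.Sheaf.existsUnique_gluing' (Coh.toAb A) V (D ⊓ U) (fun y => homOfLE inf_le_left)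
    hcov (fun y => res A (inf_le_right.trans inf_le_right) (g y)) (fun y z => by
      rcases eq_or_ne y z with rfl | hne
      · rfl
      refine TwistLib.mod_ext A fun w hw => absurd ?_ (show w ∉ X.basicOpen (h y * h z) from ?_)
      · rw [Scheme.basicOpen_mul]
        exact ⟨hw.1.2.1, hw.2.2.1⟩
      · rw [show X.basicOpen (h y * h z) = ⊥ from X.toLocallyRingedSpace.basicOpen_eq_bot_of_isNilpotent _ _ (hnil y z hne)]
        exact id)
  refine ⟨e, TwistLib.genOn_of_genAt fun z hz => ?_⟩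
  obtain ⟨y, hy⟩ := Opens.mem_iSup.mp (hcov hz)
  have h1 := congrArg (fun t => A.presheaf.germ (V y) z hy t) (he y)
  simp only [AmpleLib.germ_res] at h1
  have h2 := (hg y).genAt (x := z) hy.2.2
  have h3 : A.presheaf.germ (D ⊓ U) z hz e = A.presheaf.germ (O y) z hy.2.2 (g y) :=
    (TopCat.Presheaf.germ_res_apply A.presheaf (homOfLE inf_le_left) z hy e).symm.trans h1
  show Function.Bijective _
  rw [h3]
  exact h2

theorem isIso_restrict_of_bijective {L A : X.Modules} (p : L ⟶ A)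
    (h : ∀ V : X.Opens, V ≤ U → Function.Bijective (p.app V)) :
    IsIso ((Scheme.Modules.restrictFunctor U.ι).map p) := by
  refine Scheme.Modules.Hom.isIso_iff_isIso_app.mpr fun W => (ConcreteCategory.isIso_iff_bijective _).mpr ?_
  exact h (U.ι ''ᵁ W) (by rintro _ ⟨z, -, rfl⟩; exact z.2)

theorem genOn_of_bijective {L A : X.Modules} (p : L ⟶ A) {O : X.Opens}
    (h : ∀ V : X.Opens, V ≤ O → Function.Bijective (p.app V)) {t : Γ(L, O)} (ht : GenOn A (p.app O t)) :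
    GenOn L t := fun W hW => by
  refine (Function.Bijective.of_comp_iff' (h W hW) _).mp ?_
  have e : ((p.app W) ∘ fun r : Γ(X, W) => r • res L hW t) = fun r => r • res A hW (p.app O t) := funext fun r =>
    (QCohLib.app_smul p W r _).trans (congrArg (r • ·) (QCohLib.app_map p (homOfLE hW) t))
  rw [e]
  exact ht W hW

theorem exists_extension [QuasiCompact U.ι] (hdisc : DiscreteTopology ↥((U : Set X)ᶜ))
    (hloc : ∀ x : X, x ∉ U → IsNoetherianRing (X.presheaf.stalk x) ∧ ringKrullDim (X.presheaf.stalk x) ≤ 1)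
    (N : (U : Scheme.{u}).Modules) (hN : PicF.IsInvertible N) :
    ∃ L : X.Modules, PicF.IsInvertible L ∧ Nonempty (L.restrict U.ι ≅ N) := by
  let A := (Scheme.Modules.pushforward U.ι).obj N
  choose D hxD honly e he using fun x : {x : X // x ∉ U} => exists_gen_near hdisc x.2 (hloc x x.2) N hN
  choose E hE using fun x => (UFDExtLib.res_push_bijective U N (inf_le_left : D x ⊓ U ≤ D x) le_rfl).2 (e x)
  have hgen : ∀ i (V : X.Opens) (_ : V ≤ U) (h : V ≤ D i),
      Function.Bijective fun r : Γ(X, V) => r • res A h (E i) := by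
    intro i V hV h
    have := he i V (le_inf h hV)
    rw [← hE i] at this
    simpa only [AmpleLib.res_res] using this
  obtain ⟨L, p, ε, hL, hp, -, -⟩ := exists_glue_module hgen
    (fun x => (em (x ∈ U)).imp id fun hx => ⟨⟨x, hx⟩, hxD _⟩)
    (fun i j hij z hz => not_not.mp fun hzU => hij (Subtype.ext ((honly i z hz.1 hzU).symm.trans (honly j z hz.2 hzU))))
    (fun y hy => UFDExtLib.exists_gen_of_restrict (invertible_push_restrict N hN) hy)
  haveI := isIso_restrict_of_bijective p hp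
  exact ⟨L, hL, ⟨asIso ((Scheme.Modules.restrictFunctor U.ι).map p) ≪≫
    asIso ((Scheme.Modules.restrictAdjunction U.ι).counit.app N)⟩⟩

theorem exists_section_genLocus [QuasiCompact U.ι] (hdisc : DiscreteTopology ↥((U : Set X)ᶜ))
    (hloc : ∀ x : X, x ∉ U → IsNoetherianRing (X.presheaf.stalk x) ∧ ringKrullDim (X.presheaf.stalk x) ≤ 1) :
    ∃ (L : X.Modules) (s : Coh.structureModule X ⟶ L), PicF.IsInvertible L ∧ CohB1.genLocus L s = U := by
  let A := (Scheme.Modules.pushforward U.ι).obj (Coh.structureModule (U : Scheme.{u}))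
  let σ : Γ(A, ⊤) := (1 : Γ((U : Scheme.{u}), U.ι ⁻¹ᵁ ⊤))
  have hσ : GenOn A (res A (le_top : U ≤ ⊤) σ) := by
    intro V hV
    have hb : Function.Bijective (U.ι.app V) := by
      haveI := U.ι.isIso_app V (hV.trans_eq (Scheme.Opens.opensRange_ι U).symm)
      exact ConcreteCategory.bijective_of_isIso (U.ι.app V)
    have e : (fun r : Γ(X, V) => r • res A hV (res A (le_top : U ≤ ⊤) σ)) = fun r => U.ι.app V r := funext fun r => by
      rw [AmpleLib.res_res]
      refine (congrArg (fun t : Γ((U : Scheme.{u}), U.ι ⁻¹ᵁ V) => (U.ι.app V).hom r * t)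
        (map_one ((U : Scheme.{u}).presheaf.map (homOfLE (U.ι.preimage_mono (le_top : V ≤ ⊤))).op).hom)).trans (mul_one _)
    rw [e]
    exact hb
  have : ∀ x : {x : X // x ∉ U}, ∃ (D : X.Opens) (φ : Γ(X, D)), x.1 ∈ D ∧ (∀ z ∈ D, z ∉ U → z = x.1) ∧
      D ⊓ U ≤ X.basicOpen φ ∧ x.1 ∉ X.basicOpen φ := by
    rintro ⟨x, hx⟩
    obtain ⟨W, hxW, f, hcpt, honly, -, hgenU, hfx, -⟩ := exists_chart_fn hdisc hx (hloc x hx)
    obtain ⟨c, hxc, hc⟩ := exists_basicOpen_disjoint W hxW (U ⊓ W.1) hcpt inf_le_right (X.basicOpen f).2.isClosed_compl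
      (fun y hy hyC => Set.notMem_compl_iff.mpr (hgenU y hy fun e => hx (e ▸ hyC.1)).2)
    refine ⟨X.basicOpen c, X.presheaf.map (homOfLE (X.basicOpen_le c)).op f, hxc,
      fun z hz => honly z (X.basicOpen_le c hz), fun z hz => ?_, ?_⟩
    · rw [Scheme.basicOpen_res]
      exact ⟨hz.1, not_not.mp (hc z hz.1 ⟨hz.2, X.basicOpen_le c hz.1⟩)⟩
    · rw [Scheme.basicOpen_res]
      exact fun h => hfx h.2
  choose D φ hxD honly hDφ hxφ using this
  have hu : ∀ i, ∃ v : Γ(X, D i ⊓ U), v * X.presheaf.map (homOfLE (inf_le_left : D i ⊓ U ≤ D i)).op (φ i) = 1 := by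
    intro i
    obtain ⟨v, hv⟩ : ∃ v : Γ(X, X.basicOpen (φ i)), v * X.presheaf.map (homOfLE (X.basicOpen_le (φ i))).op (φ i) = 1 :=
      isUnit_iff_exists_inv'.mp (X.toRingedSpace.isUnit_res_basicOpen (φ i))
    refine ⟨X.presheaf.map (homOfLE (hDφ i)).op v, ?_⟩
    have h := congrArg (X.presheaf.map (homOfLE (hDφ i)).op) hv
    rw [map_mul, map_one] at h
    refine Eq.trans ?_ h
    exact congrArg (X.presheaf.map (homOfLE (hDφ i)).op v * ·)
      (AmpleLib.res_res (Coh.structureModule X) _ (hDφ i) (φ i)).symm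
  choose v hv using hu
  choose E hE using fun i => (UFDExtLib.res_push_bijective U (Coh.structureModule (U : Scheme.{u}))
    (inf_le_left : D i ⊓ U ≤ D i) le_rfl).2 (v i • res A le_top σ)
  have hgen : ∀ i (V : X.Opens) (_ : V ≤ U) (h : V ≤ D i),
      Function.Bijective fun r : Γ(X, V) => r • res A h (E i) := by
    intro i V hV h
    have e : (fun r : Γ(X, V) => r • res A h (E i)) =
        (fun r => r • res A hV (res A (le_top : U ≤ ⊤) σ)) ∘ fun r => r * X.presheaf.map (homOfLE (le_inf h hV)).op (v i) := funext fun r => by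
      simp only [Function.comp_apply]
      rw [← AmpleLib.res_res A (inf_le_left : D i ⊓ U ≤ D i) (le_inf h hV), hE i, AmpleLib.res_smul,
        AmpleLib.res_res, AmpleLib.res_res, smul_smul]
    rw [e]
    refine (hσ V hV).comp ((IsUnit.map (X.presheaf.map (homOfLE (le_inf h hV)).op).hom
      (IsUnit.of_mul_eq_one _ (hv i))).unit.mulRight.bijective)
  obtain ⟨L, p, ε, hL, hp, hε, hlift⟩ := exists_glue_module hgen
    (fun x => (em (x ∈ U)).imp id fun hx => ⟨⟨x, hx⟩, hxD _⟩)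
    (fun i j hij z hz => not_not.mp fun hzU => hij (Subtype.ext ((honly i z hz.1 hzU).symm.trans (honly j z hz.2 hzU))))
    (fun y hy => ⟨U, hy, le_rfl, _, hσ⟩)
  let c : ∀ i, Γ(X, ⊤ ⊓ D i) := fun i => X.presheaf.map (homOfLE inf_le_right).op (φ i)
  obtain ⟨t, ht, htc⟩ := hlift ⊤ σ c fun i => by
    refine (UFDExtLib.res_push_bijective U (Coh.structureModule (U : Scheme.{u}))
      (inf_le_left : ⊤ ⊓ D i ⊓ U ≤ ⊤ ⊓ D i) le_rfl).1 ?_
    show res A _ (res A inf_le_left σ) = res A _ (c i • res A inf_le_right (E i))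
    have hle : ⊤ ⊓ D i ⊓ U ≤ D i ⊓ U := inf_le_inf_right U inf_le_right
    rw [AmpleLib.res_smul, AmpleLib.res_res, AmpleLib.res_res, ← AmpleLib.res_res A (inf_le_left : D i ⊓ U ≤ D i) hle,
      hE i, AmpleLib.res_smul, AmpleLib.res_res, smul_smul]
    conv_lhs => rw [← one_smul Γ(X, ⊤ ⊓ D i ⊓ U) (res A _ σ)]
    refine congrArg₂ (· • ·) ?_ rfl
    rw [← map_one (X.presheaf.map (homOfLE hle).op).hom, ← hv i, map_mul, mul_comm]
    exact congrArg (· * _) ((AmpleLib.res_res (Coh.structureModule X) _ hle (φ i)).trans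
      (AmpleLib.res_res (Coh.structureModule X) _ _ (φ i)).symm)
  refine ⟨L, QCohLib.unitHom L t, hL, AmpleLib.genLocus_eq t U fun z => ?_⟩
  by_cases hz : z ∈ U
  · refine iff_of_true ((AmpleLib.genAt_res (le_top : U ≤ ⊤) t hz).mp ((genOn_of_bijective p hp ?_).genAt hz)) hz
    rw [show p.app U (res L le_top t) = res A le_top σ from (QCohLib.app_map p _ t).trans (congrArg _ ht)]
    exact hσ
  · refine iff_of_false (fun h => ?_) hz
    let i : {x : X // x ∉ U} := ⟨z, hz⟩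
    have hz' : z ∈ ⊤ ⊓ D i := ⟨trivial, hxD i⟩
    have h1 := (AmpleLib.genAt_res (inf_le_left : ⊤ ⊓ D i ≤ ⊤) t hz').mpr h
    rw [htc i, AmpleLib.genAt_smul_iff _ _ _ (((hε i).1.res inf_le_right).genAt hz')] at h1
    rw [Scheme.basicOpen_res] at h1
    exact hxφ i h1.2

end DiscExtLib
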