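import Groth.Agent.UFDExtLib.Point
import Mathlib.RingTheory.Ideal.MinimalPrime.Localization
import Mathlib.RingTheory.KrullDimension.Basic
import Mathlib.AlgebraicGeometry.Morphisms.QuasiCompact
import Mathlib.RingTheory.Spectrum.Prime.Noetherian

/-!
# Punctured local schemes of dimension at most one
-/

set_option autoImplicit false
universe u

open CategoryTheory AlgebraicGeometry TopologicalSpace Opposite

namespace DiscExtLib

/-- An element outside `p` pushing `h` into the radical of `I`. -/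
theorem exists_mul_mem_radical {A : Type u} [CommRing A] (p : Ideal A) [p.IsPrime] (I : Ideal A) (h : A)
    (hh : ∀ q : Ideal A, q.IsPrime → I ≤ q → q ≤ p → h ∈ q) : ∃ g ∉ p, g * h ∈ I.radical := by
  have h1 : algebraMap A (Localization.AtPrime p) h ∈ (I.map (algebraMap A (Localization.AtPrime p))).radical := by
    rw [Ideal.radical_eq_sInf, Ideal.mem_sInf]
    rintro Q ⟨hQ, hQp⟩
    have hd : Disjoint (p.primeCompl : Set A) (Q.comap (algebraMap A (Localization.AtPrime p))) :=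
      ((IsLocalization.isPrime_iff_isPrime_disjoint p.primeCompl _ Q).mp hQp).2
    exact hh _ (hQp.comap _) (Ideal.map_le_iff_le_comap.mp hQ)
      fun a ha => by_contra fun ha' => Set.disjoint_left.mp hd ha' ha
  rw [← IsLocalization.map_radical p.primeCompl (Localization.AtPrime p) I] at h1
  obtain ⟨g, hg, hgh⟩ := (IsLocalization.algebraMap_mem_map_algebraMap_iff p.primeCompl (Localization.AtPrime p) I.radical h).mp h1
  exact ⟨g, hg, hgh⟩

/-- Finitely many distinct minimal primes are separated by elements with nilpotent products. -/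
theorem exists_separating {A : Type u} [CommRing A] {ι : Type u} [Finite ι] (q : ι → Ideal A) [∀ i, (q i).IsPrime]
    (hmin : ∀ i, q i ∈ minimalPrimes A) (hinj : Function.Injective q) :
    ∃ h : ι → A, (∀ i, h i ∉ q i) ∧ ∀ i j, i ≠ j → IsNilpotent (h i * h j) := by
  classical
  haveI := Fintype.ofFinite ι
  have hpair : ∀ i j, i ≠ j → ∃ a b : A, a ∉ q i ∧ b ∉ q j ∧ a * b = 0 := by
    intro i j hij
    obtain ⟨b, hbi, hbj⟩ := SetLike.not_le_iff_exists.mp fun hle : q i ≤ q j =>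
      hij (hinj (le_antisymm hle ((hmin j).2 ⟨inferInstance, bot_le⟩ hle)))
    obtain ⟨g, hg, hgb⟩ := exists_mul_mem_radical (q i) ⊥ b fun q' hq' _ hle =>
      (le_antisymm hle ((hmin i).2 ⟨hq', bot_le⟩ hle)) ▸ hbi
    obtain ⟨n, hn⟩ := hgb
    rw [Ideal.mem_bot, mul_pow] at hn
    exact ⟨g ^ n, b ^ n, fun h => hg (‹∀ i, (q i).IsPrime› i |>.mem_of_pow_mem n h),
      fun h => hbj (‹∀ i, (q i).IsPrime› j |>.mem_of_pow_mem n h), hn⟩
  choose! a b ha hb hab using hpair
  refine ⟨fun i => ∏ j ∈ Finset.univ.erase i, a i j * b j i, fun i => ?_, fun i j hij => ?_⟩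
  · intro hmem
    obtain ⟨j, hj, hj'⟩ := (‹∀ i, (q i).IsPrime› i).prod_mem_iff.mp hmem
    have hne := (Finset.mem_erase.mp hj).1
    rcases (‹∀ i, (q i).IsPrime› i).mem_or_mem hj' with h1 | h1
    · exact ha i j hne.symm h1
    · exact hb j i hne h1
  · have h1 : a i j ∣ ∏ k ∈ Finset.univ.erase i, a i k * b k i :=
      (dvd_mul_right _ _).trans (Finset.dvd_prod_of_mem _ (Finset.mem_erase.mpr ⟨hij.symm, Finset.mem_univ _⟩))
    have h2 : b i j ∣ ∏ k ∈ Finset.univ.erase j, a j k * b k j :=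
      (dvd_mul_left _ _).trans (Finset.dvd_prod_of_mem _ (Finset.mem_erase.mpr ⟨hij, Finset.mem_univ _⟩))
    have := mul_dvd_mul h1 h2
    rw [hab i j hij, zero_dvd_iff] at this
    exact ⟨1, by rw [pow_one]; exact this⟩

variable {X : Scheme.{u}}

/-- A closed set disjoint from the generizations of `x` avoids a neighbourhood of `x` within a compact open. -/
theorem exists_basicOpen_disjoint (W : X.affineOpens) {x : X} (hx : x ∈ W.1) (C : X.Opens)
    (hC : IsCompact (C : Set X)) (hCW : C ≤ W.1) {K : Set X} (hK : IsClosed K)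
    (h : ∀ y, y ⤳ x → y ∈ C → y ∉ K) :
    ∃ g : Γ(X, W.1), x ∈ X.basicOpen g ∧ ∀ y ∈ X.basicOpen g, y ∈ C → y ∉ K := by
  classical
  let J := Scheme.IdealSheafData.vanishingIdeal (⟨K, hK⟩ : Closeds X)
  have hJ : ∀ (z : X) (hz : z ∈ W.1), z ∈ K ↔ J.ideal W ≤ SDivLib.prm W hz := fun z hz =>
    (Set.ext_iff.mp (Scheme.IdealSheafData.coe_support_vanishingIdeal (⟨K, hK⟩ : Closeds X)).symm z).trans
      (SDivLib.mem_support_iff_le J W hz)
  have key : ∀ z : (C : Set X), ∃ (f : Γ(X, W.1)) (g : Γ(X, W.1)), z.1 ∈ X.basicOpen f ∧ X.basicOpen f ≤ C ∧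
      g ∉ SDivLib.prm W hx ∧ g * f ∈ (J.ideal W).radical := by
    rintro ⟨z, hz⟩
    obtain ⟨f, hfC, hzf⟩ := W.2.exists_basicOpen_le (V := C) ⟨z, hz⟩ (hCW hz)
    haveI := SDivLib.prm_isPrime W hx
    obtain ⟨g, hg, hgf⟩ := exists_mul_mem_radical (SDivLib.prm W hx) (J.ideal W) f fun q hq hIq hqp => by
      haveI := hq
      by_contra hf
      have hyf : UFDExtLib.pt W q ∈ X.basicOpen f := by
        rw [X.mem_basicOpen f _ (UFDExtLib.pt_mem W q)]
        by_contra hu
        have := (SDivLib.mem_prm_iff W (UFDExtLib.pt_mem W q) f).mpr hu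
        rw [UFDExtLib.prm_pt] at this
        exact hf this
      exact h _ (UFDExtLib.specializes_of_le W (UFDExtLib.pt_mem W q) hx (by rw [UFDExtLib.prm_pt]; exact hqp))
        (hfC hyf) ((hJ _ (UFDExtLib.pt_mem W q)).mpr (by rw [UFDExtLib.prm_pt]; exact hIq))
    exact ⟨f, g, hzf, hfC, hg, hgf⟩
  choose f g hzf hfC hg hgf using key
  obtain ⟨t, ht⟩ := hC.elim_finite_subcover (fun z => (X.basicOpen (f z) : Set X)) (fun z => (X.basicOpen (f z)).2)
    fun z hz => Set.mem_iUnion.mpr ⟨⟨z, hz⟩, hzf _⟩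
  haveI := SDivLib.prm_isPrime W hx
  refine ⟨∏ z ∈ t, g z, ?_, fun y hy hyC hyK => ?_⟩
  · rw [X.mem_basicOpen _ x hx]
    by_contra hu
    obtain ⟨z, -, hz⟩ := (SDivLib.prm_isPrime W hx).prod_mem_iff.mp ((SDivLib.mem_prm_iff W hx _).mpr hu)
    exact hg z hz
  · have hyW : y ∈ W.1 := X.basicOpen_le _ hy
    obtain ⟨z, hzt, hyz⟩ := Set.mem_iUnion₂.mp (ht hyC)
    haveI := SDivLib.prm_isPrime W hyW
    have h1 : g z * f z ∈ SDivLib.prm W hyW :=
      ((SDivLib.prm_isPrime W hyW).radical_le_iff.mpr ((hJ y hyW).mp hyK)) (hgf z)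
    rcases (SDivLib.prm_isPrime W hyW).mem_or_mem h1 with h2 | h2
    · exact (SDivLib.mem_prm_iff W hyW _).mp
        (Ideal.mem_of_dvd _ (Finset.dvd_prod_of_mem g hzt) h2) ((X.mem_basicOpen _ y hyW).mp hy)
    · exact (SDivLib.mem_prm_iff W hyW _).mp h2 ((X.mem_basicOpen _ y hyW).mp hyz)

/-- The proper generizations of a point with Noetherian local ring of dimension at most one. -/
theorem generizations (W : X.affineOpens) {x : X} (hx : x ∈ W.1) [IsNoetherianRing (X.presheaf.stalk x)]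
    (hdim : ringKrullDim (X.presheaf.stalk x) ≤ 1) :
    {y | y ⤳ x ∧ y ≠ x}.Finite ∧
      ∀ y (hy : y ∈ W.1), y ⤳ x → y ≠ x → SDivLib.prm W hy ∈ minimalPrimes Γ(X, W.1) := by
  haveI := SDivLib.prm_isPrime W hx
  letI := X.presheaf.algebra_section_stalk (⟨x, hx⟩ : W.1)
  haveI hl : IsLocalization.AtPrime (X.presheaf.stalk x) (SDivLib.prm W hx) := W.2.isLocalization_stalk ⟨x, hx⟩
  haveI : Ring.KrullDimLE 1 (X.presheaf.stalk x) := Ring.krullDimLE_iff.mpr (by exact_mod_cast hdim)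
  let R := X.presheaf.stalk x
  let o := IsLocalization.AtPrime.orderIsoOfPrime R (SDivLib.prm W hx)
  have key : ∀ y (hy : y ∈ W.1), y ⤳ x → y ≠ x → SDivLib.prm W hy ∈ minimalPrimes Γ(X, W.1) := by
    intro y hy hyx hne
    haveI := SDivLib.prm_isPrime W hy
    refine ⟨⟨inferInstance, bot_le⟩, fun q hq hqy => ?_⟩
    by_contra hlt
    have h1 : SDivLib.prm W hy ≤ SDivLib.prm W hx := UFDExtLib.prm_le_of_specializes W hy hx hyx
    have h2 : SDivLib.prm W hy ≠ SDivLib.prm W hx := fun e => hne (UFDExtLib.eq_of_prm_eq W hy hx e)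
    let a := o.symm ⟨q, hq.1, hqy.trans h1⟩
    let b := o.symm ⟨SDivLib.prm W hy, inferInstance, h1⟩
    let c := o.symm ⟨SDivLib.prm W hx, inferInstance, le_rfl⟩
    have hab : a < b := o.symm.strictMono (lt_of_le_of_ne hqy fun e => hlt (Subtype.ext_iff.mp e).ge :
      (⟨q, hq.1, hqy.trans h1⟩ : {p : Ideal Γ(X, W.1) // p.IsPrime ∧ p ≤ SDivLib.prm W hx}) < ⟨_, inferInstance, h1⟩)
    have hbc : b < c := o.symm.strictMono (lt_of_le_of_ne h1 fun e => h2 (Subtype.ext_iff.mp e) :
      (⟨SDivLib.prm W hy, inferInstance, h1⟩ : {p : Ideal Γ(X, W.1) // p.IsPrime ∧ p ≤ SDivLib.prm W hx}) < ⟨_, inferInstance, le_rfl⟩)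
    haveI := a.2
    haveI := b.2
    have hmax : b.1.IsMaximal := by
      rcases Ring.krullDimLE_one_iff.mp inferInstance b.1 b.2 with hb | hb
      · exact absurd (hb.2 ⟨a.2, bot_le⟩ hab.le) (not_le_of_gt hab)
      · exact hb
    exact (ne_of_lt (show b.1 < c.1 from hbc)) (hmax.eq_of_le c.2.ne_top hbc.le)
  refine ⟨?_, key⟩
  haveI := (minimalPrimes.finite_of_isNoetherianRing R).to_subtype
  haveI : Finite (PrimeSpectrum R) :=
    Finite.of_injective (β := Option (minimalPrimes R))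
      (fun P => open Classical in if h : P.asIdeal ∈ minimalPrimes R then some ⟨_, h⟩ else none) fun P Q e => by
      by_cases hP : P.asIdeal ∈ minimalPrimes R <;> by_cases hQ : Q.asIdeal ∈ minimalPrimes R <;>
        simp only [hP, hQ, dite_true, dite_false, reduceCtorEq, Option.some.injEq, Subtype.mk.injEq] at e
      · exact PrimeSpectrum.ext e
      · have hP' := (Ring.krullDimLE_one_iff.mp inferInstance _ P.2).resolve_left hP
        have hQ' := (Ring.krullDimLE_one_iff.mp inferInstance _ Q.2).resolve_left hQ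
        exact PrimeSpectrum.ext ((IsLocalRing.eq_maximalIdeal hP').trans (IsLocalRing.eq_maximalIdeal hQ').symm)
  haveI : Finite ↥(Spec (X.presheaf.stalk x)) := ‹Finite (PrimeSpectrum R)›
  refine Set.Finite.subset (Set.finite_range (X.fromSpecStalk x)) fun y hy => ?_
  rw [X.range_fromSpecStalk]
  exact hy.1

end DiscExtLib
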