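import Groth.Agent.DiscExtLib.Glue
import Groth.Agent.TwistLib.ProjSymExt
import Groth.Agent.DevissLib.Stalk

/-!
# Invertible modules on a union of closed subschemes meeting in discrete sets
-/

set_option autoImplicit false
universe u

open CategoryTheory CategoryTheory.Limits AlgebraicGeometry TopologicalSpace Opposite
open AmpleLib (res GenAt GenOn)
open DevissLib (St gm)
open KFlatLib (pb puSec)

noncomputable section

namespace DiscExtLib

variable {X : Scheme.{u}} {ι : Type u} (Z : ι → X.IdealSheafData) (L : ∀ i, (Z i).subscheme.Modules)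

/-- The product of the direct images. -/
abbrev Gall : X.Modules := ∏ᶜ fun i => (Scheme.Modules.pushforward (Z i).subschemeι).obj (L i)

/-- The component of a section. -/
abbrev comp (i : ι) {V : X.Opens} (a : Γ(Gall Z L, V)) : Γ(L i, (Z i).subschemeι ⁻¹ᵁ V) :=
  (Pi.π (fun i => (Scheme.Modules.pushforward (Z i).subschemeι).obj (L i)) i).app V a

theorem comp_res (i : ι) {V W : X.Opens} (h : W ≤ V) (a : Γ(Gall Z L, V)) :
    comp Z L i (res (Gall Z L) h a) = res (L i) ((Z i).subschemeι.preimage_mono h) (comp Z L i a) :=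
  QCohLib.app_map _ (homOfLE h) a

theorem comp_smul (i : ι) {V : X.Opens} (r : Γ(X, V)) (a : Γ(Gall Z L, V)) :
    comp Z L i (r • a) = (Z i).subschemeι.app V r • comp Z L i a :=
  QCohLib.app_smul _ V r a

theorem comp_ext {V : X.Opens} {a b : Γ(Gall Z L, V)} (h : ∀ i, comp Z L i a = comp Z L i b) : a = b :=
  (pi_sections _ V).1 (funext h)

theorem exists_of_comp {V : X.Opens} (c : ∀ i, Γ(L i, (Z i).subschemeι ⁻¹ᵁ V)) :
    ∃ a : Γ(Gall Z L, V), ∀ i, comp Z L i a = c i := by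
  obtain ⟨a, ha⟩ := (pi_sections (fun i => (Scheme.Modules.pushforward (Z i).subschemeι).obj (L i)) V).2 c
  exact ⟨a, congrFun ha⟩

/-- A generator of an invertible module over a neighbourhood of a point of the ambient scheme. -/
theorem exists_gen_around {Y : Scheme.{u}} (f : Y ⟶ X) [IsClosedImmersion f] {M : Y.Modules}
    (hM : PicF.IsInvertible M) (x : X) :
    ∃ (W : X.Opens) (e : Γ(M, f ⁻¹ᵁ W)), x ∈ W ∧ GenOn M e := by
  by_cases h : ∃ ξ, f ξ = x
  · obtain ⟨ξ, rfl⟩ := h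
    obtain ⟨O, e, hξO, he⟩ := TwistLib.exists_genOn hM ξ
    obtain ⟨W, hW, hWO⟩ := f.isClosedEmbedding.isInducing.isOpen_iff.mp O.2
    have hle : f ⁻¹ᵁ (⟨W, hW⟩ : X.Opens) ≤ O := fun z hz => hWO.le hz
    exact ⟨⟨W, hW⟩, res M hle e, show ξ ∈ f ⁻¹' W from hWO.ge hξO, he.res hle⟩
  · refine ⟨⟨(Set.range f)ᶜ, f.isClosedEmbedding.isClosed_range.isOpen_compl⟩, 0, h,
      TwistLib.genOn_of_genAt fun z hz => absurd ⟨z, rfl⟩ hz⟩

theorem exists_invertible [IsReduced X] [Finite ι] (hcov : ∀ x : X, ∃ i, x ∈ ((Z i).support : Set X))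
    (hdisc : ∀ i j, i ≠ j → DiscreteTopology ↥(((Z i).support : Set X) ∩ ((Z j).support : Set X)))
    (hL : ∀ i, PicF.IsInvertible (L i)) :
    ∃ M : X.Modules, PicF.IsInvertible M ∧
      ∀ i, Nonempty ((Scheme.Modules.pullback (Z i).subschemeι).obj M ≅ L i) := by
  classical
  haveI := Fintype.ofFinite ι
  let f := fun i => (Z i).subschemeι
  have hsupp : ∀ i (x : X), x ∈ ((Z i).support : Set X) ↔ ∃ ξ, f i ξ = x := fun i x =>
    (Set.ext_iff.mp (Scheme.IdealSheafData.range_subschemeι (Z i)) x).symm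
  -- the intersection points
  let C : Set X := ⋃ p ∈ {p : ι × ι | p.1 ≠ p.2}, ((Z p.1).support : Set X) ∩ (Z p.2).support
  have hsep : ∀ x : X, ∃ W : X.Opens, x ∈ W ∧ ∀ z ∈ W, z ∈ C → z = x := by
    intro x
    have hone : ∀ p : {p : ι × ι // p.1 ≠ p.2}, ∃ W : X.Opens, x ∈ W ∧
        ∀ z ∈ W, z ∈ ((Z p.1.1).support : Set X) ∩ (Z p.1.2).support → z = x := by
      rintro ⟨⟨i, j⟩, hij⟩
      by_cases hx : x ∈ ((Z i).support : Set X) ∩ (Z j).support
      · haveI := hdisc i j hij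
        obtain ⟨O, hO, hOx⟩ := isOpen_induced_iff.mp
          (isOpen_discrete ({⟨x, hx⟩} : Set ↥(((Z i).support : Set X) ∩ ((Z j).support : Set X))))
        refine ⟨⟨O, hO⟩, show x ∈ O from (Set.ext_iff.mp hOx ⟨x, hx⟩).mpr rfl, fun z hz hzC => ?_⟩
        exact congrArg Subtype.val (Set.mem_singleton_iff.mp ((Set.ext_iff.mp hOx ⟨z, hzC⟩).mp hz))
      · exact ⟨⟨_, ((Z i).support.2.inter (Z j).support.2).isOpen_compl⟩, hx, fun z hz h => absurd h hz⟩
    choose W hxW hW using hone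
    refine ⟨⟨⋂ p, (W p : Set X), isOpen_iInter_of_finite fun p => (W p).2⟩, Set.mem_iInter.mpr hxW, fun z hz hzC => ?_⟩
    obtain ⟨p, hp, hzp⟩ := Set.mem_iUnion₂.mp hzC
    exact hW ⟨p, hp⟩ z (Set.mem_iInter.mp hz _) hzp
  choose W₀ hxW₀ hW₀ using hsep
  choose W₁ e₁ hxW₁ he₁ using fun x i => exists_gen_around (f i) (hL i) x
  let W : X → X.Opens := fun x => W₀ x ⊓ ⟨⋂ i, (W₁ x i : Set X), isOpen_iInter_of_finite fun i => (W₁ x i).2⟩
  have hxW : ∀ x, x ∈ W x := fun x => ⟨hxW₀ x, Set.mem_iInter.mpr (hxW₁ x)⟩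
  have hW1 : ∀ x i, W x ≤ W₁ x i := fun x i z hz => Set.mem_iInter.mp hz.2 i
  let e : ∀ x i, Γ(L i, f i ⁻¹ᵁ W x) := fun x i => res (L i) ((f i).preimage_mono (hW1 x i)) (e₁ x i)
  choose E hE using fun x => exists_of_comp Z L (e x)
  let S : QCohLib.LocSub (Gall Z L) :=
  { mem := fun V a => ∀ x ∈ C, ∀ hx : x ∈ V,
      gm (Gall Z L) x hx a ∈ Submodule.span (X.presheaf.stalk x) {gm (Gall Z L) x (hxW x) (E x)}
    zero := fun V x _ hx => by rw [DevissLib.gm_zero]; exact Submodule.zero_mem _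
    add := fun {V a b} ha hb x hC hx => by
      rw [show gm (Gall Z L) x hx (a + b) = gm _ x hx a + gm _ x hx b from map_add ((Gall Z L).presheaf.germ V x hx).hom a b]
      exact Submodule.add_mem _ (ha x hC hx) (hb x hC hx)
    smul := fun {V} r {a} ha x hC hx => by
      rw [DevissLib.gm_smul]; exact Submodule.smul_mem _ _ (ha x hC hx)
    res := fun {V V'} h {a} ha x hC hx => by
      rw [DevissLib.gm_map]; exact ha x hC (h hx)
    local' := fun {V} a ha x hC hx => by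
      obtain ⟨V', h, hxV', hm⟩ := ha x hx
      have := hm x hC hxV'
      rwa [DevissLib.gm_map] at this }
  have hEmem : ∀ x, S.mem (W x) (E x) := by
    intro x x' hC hx'
    obtain rfl : x' = x := hW₀ x x' hx'.1 hC
    exact Submodule.mem_span_singleton_self _
  -- injectivity
  have hinj : ∀ x (V : X.Opens) (hV : V ≤ W x) (r : Γ(X, V)),
      r • res (Gall Z L) hV (E x) = 0 → r = 0 := by
    intro x V hV r hr
    refine (basicOpen_eq_bot_iff r).mp (le_bot_iff.mp fun z hz => ?_)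
    obtain ⟨i, hi⟩ := hcov z
    obtain ⟨ξ, rfl⟩ := (hsupp i z).mp hi
    have h0 : (f i).app V r = 0 := by
      refine (((he₁ x i).res ((f i).preimage_mono (hW1 x i))) _ ((f i).preimage_mono hV)).1 ?_
      show (f i).app V r • res (L i) ((f i).preimage_mono hV) (e x i) = (0 : Γ((Z i).subscheme, f i ⁻¹ᵁ V)) • _
      rw [zero_smul, ← hE x i, ← comp_res Z L i hV, ← comp_smul, hr]
      exact map_zero _
    have h1 : ξ ∈ (Z i).subscheme.basicOpen ((f i).app V r) := by
      rw [← Scheme.preimage_basicOpen]; exact hz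
    rw [h0, Scheme.basicOpen_zero] at h1
    exact h1
  -- local coefficients
  have hloc : ∀ x (V : X.Opens) (hV : V ≤ W x) (a : Γ(Gall Z L, V)), S.mem V a → ∀ z ∈ V,
      ∃ (O : X.Opens) (hO : O ≤ V) (r : Γ(X, O)), z ∈ O ∧
        res (Gall Z L) hO a = r • res (Gall Z L) (hO.trans hV) (E x) := by
    intro x V hV a ha z hz
    by_cases hzC : z ∈ C
    · obtain rfl : z = x := hW₀ x z (hV hz).1 hzC
      obtain ⟨c, hc⟩ := Submodule.mem_span_singleton.mp (ha z hzC hz)
      obtain ⟨U', hzU', r, rfl⟩ := X.presheaf.exists_germ_eq (x := z) c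
      let O' := U' ⊓ V
      have hO' : O' ≤ V := inf_le_right
      have h2 : gm (Gall Z L) z (show z ∈ O' from ⟨hzU', hz⟩) (res _ hO' a) =
          gm (Gall Z L) z (show z ∈ O' from ⟨hzU', hz⟩)
            (X.presheaf.map (homOfLE (inf_le_left : O' ≤ U')).op r • res _ (hO'.trans hV) (E z)) := by
        rw [DevissLib.gm_smul, DevissLib.gm_map, DevissLib.gm_map, TopCat.Presheaf.germ_res_apply]
        exact hc.symm
      obtain ⟨O, hzO, i₁, i₂, hO⟩ := TopCat.Presheaf.germ_eq (Gall Z L).presheaf z _ _ _ _ h2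
      refine ⟨O, i₁.le.trans hO', X.presheaf.map (homOfLE (i₁.le.trans inf_le_left)).op r, hzO, ?_⟩
      have h3 : res (Gall Z L) i₁.le (res _ hO' a) =
          res (Gall Z L) i₁.le (X.presheaf.map (homOfLE (inf_le_left : O' ≤ U')).op r • res _ (hO'.trans hV) (E z)) := hO
      rw [AmpleLib.res_smul, AmpleLib.res_res, AmpleLib.res_res] at h3
      exact h3.trans (congrArg (· • _) (AmpleLib.res_res (Coh.structureModule X) _ i₁.le r))
    · obtain ⟨i, hi⟩ := hcov z
      obtain ⟨ξ, rfl⟩ := (hsupp i z).mp hi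
      have hOther : ∀ j, j ≠ i → f i ξ ∉ ((Z j).support : Set X) := fun j hj h =>
        hzC (Set.mem_iUnion₂.mpr ⟨(i, j), hj.symm, hi, h⟩)
      let O₁ : X.Opens := ⟨⋂ j : {j // j ≠ i}, ((Z j.1).support : Set X)ᶜ,
        isOpen_iInter_of_finite fun j => (Z j.1).support.2.isOpen_compl⟩
      obtain ⟨u, hu⟩ := (((he₁ x i).res ((f i).preimage_mono (hW1 x i))) _ ((f i).preimage_mono hV)).2 (comp Z L i a)
      dsimp only at hu
      obtain ⟨c, hc⟩ := (f i).stalkMap_surjective ξ ((Z i).subscheme.presheaf.germ (f i ⁻¹ᵁ V) ξ hz u)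
      obtain ⟨O₂, hzO₂, r, rfl⟩ := X.presheaf.exists_germ_eq (x := f i ξ) c
      rw [Scheme.Hom.germ_stalkMap_apply] at hc
      obtain ⟨P, hξP, i₁, i₂, hP⟩ := TopCat.Presheaf.germ_eq (Z i).subscheme.presheaf ξ _ hz _ _ hc
      obtain ⟨O₃, hO₃, hO₃P⟩ := (f i).isClosedEmbedding.isInducing.isOpen_iff.mp P.2
      let O : X.Opens := O₁ ⊓ O₂ ⊓ ⟨O₃, hO₃⟩ ⊓ V
      have hO₂ : O ≤ O₂ := inf_le_left.trans (inf_le_left.trans inf_le_right)
      refine ⟨O, inf_le_right, X.presheaf.map (homOfLE hO₂).op r,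
        ⟨⟨⟨Set.mem_iInter.mpr fun j => hOther j.1 j.2, hzO₂⟩, show ξ ∈ f i ⁻¹' O₃ from hO₃P.ge hξP⟩, hz⟩,
        comp_ext Z L fun j => ?_⟩
      rw [comp_res, comp_smul, comp_res, hE x j]
      rcases eq_or_ne j i with rfl | hj
      · have hle : f j ⁻¹ᵁ O ≤ P := fun w hw => hO₃P.le hw.1.2
        have h' : (f j).app O (X.presheaf.map (homOfLE hO₂).op r) =
            (Z j).subscheme.presheaf.map (homOfLE ((f j).preimage_mono (inf_le_right : O ≤ V))).op u := by
          rw [← CommRingCat.comp_apply, (f j).naturality]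
          exact ((AmpleLib.res_res (Coh.structureModule (Z j).subscheme) i₁.le hle ((f j).app O₂ r)).symm.trans
            (congrArg ((Z j).subscheme.presheaf.map (homOfLE hle).op) hP)).trans
              (AmpleLib.res_res (Coh.structureModule (Z j).subscheme) i₂.le hle u)
        rw [h', ← hu, AmpleLib.res_smul, AmpleLib.res_res]
      · refine TwistLib.mod_ext (L j) fun w hw => ?_
        exact absurd ((hsupp j _).mpr ⟨w, rfl⟩) (Set.mem_iInter.mp hw.1.1.1 ⟨j, hj⟩)
  let ε : ∀ x, Γ(S.toModules, W x) := fun x => S.lift (E x) (hEmem x)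
  have hι : ∀ x (V : X.Opens) (hV : V ≤ W x) (r : Γ(X, V)),
      S.ι.app V (r • res S.toModules hV (ε x)) = r • res (Gall Z L) hV (E x) := fun x V hV r =>
    (QCohLib.app_smul S.ι V r _).trans (congrArg (r • ·) (QCohLib.app_map S.ι (homOfLE hV) (ε x)))
  have hε : ∀ x, GenOn S.toModules (ε x) := by
    intro x V hV
    refine ⟨fun r r' h => sub_eq_zero.mp (hinj x V hV _ ?_), fun a => ?_⟩
    · have h' := congrArg (S.ι.app V) h
      simp only [hι] at h'
      rw [sub_smul, h', sub_self]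
    choose O hO r hzO hr using fun z : V => hloc x V hV (S.ι.app V a) (S.ι_app_mem a) z.1 z.2
    obtain ⟨g, hg, -⟩ := TopCat.Sheaf.existsUnique_gluing' (Coh.toAb (Coh.structureModule X)) O V
      (fun z => homOfLE (hO z)) (fun z hz => Opens.mem_iSup.mpr ⟨⟨z, hz⟩, hzO _⟩) r (fun z z' => by
        refine sub_eq_zero.mp (hinj x (O z ⊓ O z') (inf_le_left.trans ((hO z).trans hV)) _ ?_)
        have ea := congrArg (res (Gall Z L) (inf_le_left : O z ⊓ O z' ≤ O z)) (hr z)
        have eb := congrArg (res (Gall Z L) (inf_le_right : O z ⊓ O z' ≤ O z')) (hr z')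
        rw [AmpleLib.res_smul, AmpleLib.res_res, AmpleLib.res_res] at ea eb
        exact (sub_smul _ _ _).trans (sub_eq_zero.mpr (ea.symm.trans eb)))
    refine ⟨g, S.ι_app_injective V ((hι x V hV g).trans (TwistLib.mod_ext (Gall Z L) fun z hz => ?_))⟩
    have h1 := congrArg (fun t => (Gall Z L).presheaf.germ (O ⟨z, hz⟩) z (hzO _) t) (hr ⟨z, hz⟩)
    simp only [AmpleLib.germ_res, AmpleLib.germ_smul] at h1
    rw [AmpleLib.germ_smul, AmpleLib.germ_res, h1]
    have h2 : X.presheaf.map (homOfLE (hO ⟨z, hz⟩)).op g = r ⟨z, hz⟩ := hg _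
    rw [← h2, TopCat.Presheaf.germ_res_apply]
  refine ⟨S.toModules, TwistLib.isInvertible_of_genOn W (fun x => ⟨x, hxW x⟩) ε hε, fun i => ?_⟩
  let q : S.toModules ⟶ (Scheme.Modules.pushforward (f i)).obj (L i) :=
    S.ι ≫ Pi.π (fun i => (Scheme.Modules.pushforward (Z i).subschemeι).obj (L i)) i
  let adj := Scheme.Modules.pullbackPushforwardAdjunction (f i)
  let θ : pb (f i) S.toModules ⟶ L i := (adj.homEquiv _ _).symm q
  have hθ : ∀ x, θ.app (f i ⁻¹ᵁ W x) (puSec (f i) (ε x)) = e x i := fun x => by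
    have h := (adj.homEquiv_unit _ _ θ).symm.trans (Equiv.apply_symm_apply _ q)
    exact (congr($(h).app (W x) (ε x))).trans (hE x i)
  haveI : IsIso θ := TwistLib.isIso_of_gen θ fun ξ => ⟨f i ⁻¹ᵁ W (f i ξ), hxW (f i ξ), puSec (f i) (ε (f i ξ)),
    TwistLib.GenAt.puSec (f i) ((hε (f i ξ)).genAt (hxW (f i ξ))), by
      rw [hθ]
      exact ((he₁ (f i ξ) i).res _).genAt (x := ξ) (hxW (f i ξ))⟩
  exact ⟨asIso θ⟩

end DiscExtLib
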